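import Cfsg.Agent.H357.Sp.Spec
import Cfsg.Agent.H357.NT
import Cfsg.Agent.H357.PermOrd

/-!
# SPEC-ALT task 1779: prime numbers in `(n / 2, n]`, the orders of the sporadic groups, alternating groups (helper964)
-/

set_option autoImplicit false

namespace Cfsg.Agent.H964.SpAlt

open Cfsg.Agent.H357 Cfsg.Agent.H357.Sp

/-- the primes from 11 to 167 -/
def prims : List ℕ := [11, 13, 17, 19, 23, 29, 31, 37, 41, 43, 47, 53, 59, 61, 67, 71, 73, 79, 83, 89, 97, 101, 103, 107,
  109, 113, 127, 131, 137, 139, 149, 151, 157, 163, 167]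

theorem prims_prime : ∀ p ∈ prims, p.Prime := by
  intro p hp
  simp only [prims, List.mem_cons, List.not_mem_nil, or_false] at hp
  rcases hp with rfl | rfl | rfl | rfl | rfl | rfl | rfl | rfl | rfl | rfl | rfl | rfl | rfl | rfl | rfl | rfl | rfl |
    rfl | rfl | rfl | rfl | rfl | rfl | rfl | rfl | rfl | rfl | rfl | rfl | rfl | rfl | rfl | rfl | rfl | rfl <;> norm_num

/-- the test for membership in `T n` -/
def inT (n p : ℕ) : Bool := Nat.blt (n / 2) p && Nat.ble p n

theorem mem_T' {n p : ℕ} : p ∈ T n ↔ n / 2 < p ∧ p ≤ n ∧ p.Prime := by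
  unfold T
  simp only [Finset.mem_filter, Finset.mem_Ioc, and_assoc]

theorem inT_iff {n p : ℕ} : inT n p = true ↔ n / 2 < p ∧ p ≤ n := by
  unfold inT
  rw [Bool.and_eq_true, Nat.blt_eq, Nat.ble_eq]

theorem mem_T {n p : ℕ} (hp : p ∈ prims) (h : inT n p = true) : p ∈ T n :=
  mem_T'.2 ⟨(inT_iff.1 h).1, (inT_iff.1 h).2, prims_prime p hp⟩

/-- the primes of `T n` -/
def lT (n : ℕ) : List ℕ := prims.filter (inT n)

theorem mem_T_of_lT {n p : ℕ} (hp : p ∈ lT n) : p ∈ T n := by
  obtain ⟨h1, h2⟩ := List.mem_filter.1 hp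
  exact mem_T h1 h2

theorem card_small : ((List.range 52).all fun n => Nat.blt n 17 || Nat.ble 3 (lT n).length) = true := by
  decide +kernel

theorem prims_nodup : prims.Nodup := by decide +kernel

/-- `(n / 2, n]` contains at least three primes -/
theorem card_T_ge {n : ℕ} (hn : 17 ≤ n) : 3 ≤ (T n).card := by
  rcases lt_or_ge n 52 with h | h
  · have h1 := List.all_eq_true.1 card_small n (List.mem_range.2 h)
    rw [Bool.or_eq_true, Nat.blt_eq, Nat.ble_eq] at h1
    have h2 : 3 ≤ (lT n).length := by omega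
    have h3 : (lT n).Nodup := prims_nodup.filter _
    have h4 : (lT n).toFinset ⊆ T n := fun p hp => mem_T_of_lT (List.mem_toFinset.1 hp)
    calc 3 ≤ (lT n).length := h2
      _ = (lT n).toFinset.card := (List.toFinset_card_of_nodup h3).symm
      _ ≤ (T n).card := Finset.card_le_card h4
  · obtain ⟨r, s, hr, hs, h1, h2, h3⟩ := NT.two_primes (n := n) (by omega)
    obtain ⟨r', s', hr', hs', h1', h2', h3'⟩ := NT.two_primes (n := 4 * n / 5) (by omega)
    have e1 : s' ≠ r := by omega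
    have e2 : s' ≠ s := by omega
    have e3 : r ≠ s := by omega
    have hsub : ({s', r, s} : Finset ℕ) ⊆ T n := by
      intro p hp
      simp only [Finset.mem_insert, Finset.mem_singleton] at hp
      rcases hp with rfl | rfl | rfl
      · exact mem_T'.2 ⟨by omega, by omega, hs'⟩
      · exact mem_T'.2 ⟨by omega, by omega, hr⟩
      · exact mem_T'.2 ⟨by omega, by omega, hs⟩
    calc 3 = ({s', r, s} : Finset ℕ).card := by
          rw [Finset.card_insert_of_notMem (by simp [e1, e2]), Finset.card_insert_of_notMem (by simp [e3]),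
            Finset.card_singleton]
      _ ≤ (T n).card := Finset.card_le_card hsub

/-- the condition of `exists_prime_T` -/
def good (n t r p : ℕ) : Bool :=
  !(Nat.beq r t) && !(Nat.beq p t) && Nat.ble (r + 3) p && Nat.ble 7 (n - r) &&
    !(Nat.beq (n - r) 8) && !(Nat.beq (n - r) 10)

theorem pair_small : ((List.range 170).all fun n => Nat.blt n 29 ||
    (0 :: lT n).all fun t => (Nat.beq n 29 && Nat.beq t 17) || (Nat.beq n 39 && Nat.beq t 23) ||
      (lT n).any fun r => (lT n).any fun p => good n t r p) = true := by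
  decide +kernel

/-- two primes of `(n / 2, n]` -/
theorem exists_prime_T_strong {n : ℕ} (hn : 29 ≤ n) (t₀ : ℕ) (h1 : ¬ (n = 29 ∧ t₀ = 17)) (h2 : ¬ (n = 39 ∧ t₀ = 23)) :
    ∃ r p : ℕ, r ∈ T n ∧ p ∈ T n ∧ r ≠ t₀ ∧ p ≠ t₀ ∧ r + 3 ≤ p ∧ 7 ≤ n - r ∧ n - r ≠ 8 ∧ n - r ≠ 10 := by
  rcases lt_or_ge n 170 with h | h
  · have h3 := List.all_eq_true.1 pair_small n (List.mem_range.2 h)
    rw [Bool.or_eq_true, Nat.blt_eq] at h3
    have h4 := List.all_eq_true.1 (h3.resolve_left (by omega))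
    have key : ∀ t ∈ (0 :: lT n), ¬ (n = 29 ∧ t = 17) → ¬ (n = 39 ∧ t = 23) → ∃ r p : ℕ, r ∈ lT n ∧ p ∈ lT n ∧ r ≠ t ∧
        p ≠ t ∧ r + 3 ≤ p ∧ 7 ≤ n - r ∧ n - r ≠ 8 ∧ n - r ≠ 10 := by
      intro t ht h5 h6
      have h7 := h4 t ht
      simp only [Bool.or_eq_true, Bool.and_eq_true, Nat.beq_eq, List.any_eq_true, good, Bool.not_eq_true',
        Nat.ble_eq] at h7
      obtain ⟨r, hr, p, hp, ⟨⟨⟨⟨a1, a2⟩, a3⟩, a4⟩, a5⟩, a6⟩ := h7.resolve_left (by
        rintro (h8 | h8)
        · exact h5 h8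
        · exact h6 h8)
      refine ⟨r, p, hr, hp, ?_, ?_, a3, a4, ?_, ?_⟩
      · intro e
        rw [e, Nat.beq_refl] at a1
        exact Bool.noConfusion a1
      · intro e
        rw [e, Nat.beq_refl] at a2
        exact Bool.noConfusion a2
      · intro e
        rw [e] at a5
        exact Bool.noConfusion a5
      · intro e
        rw [e] at a6
        exact Bool.noConfusion a6
    by_cases ht : t₀ ∈ lT n
    · obtain ⟨r, p, hr, hp, hh⟩ := key t₀ (List.mem_cons_of_mem _ ht) h1 h2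
      exact ⟨r, p, mem_T_of_lT hr, mem_T_of_lT hp, hh⟩
    · obtain ⟨r, p, hr, hp, -, -, hh⟩ := key 0 (List.mem_cons_self ..) (by simp) (by simp)
      exact ⟨r, p, mem_T_of_lT hr, mem_T_of_lT hp, fun e => ht (e ▸ hr), fun e => ht (e ▸ hp), hh⟩
  · obtain ⟨r, s, hr, hs, a1, a2, a3⟩ := NT.two_primes (n := n) (by omega)
    obtain ⟨r', s', hr', hs', b1, b2, b3⟩ := NT.two_primes (n := 4 * (4 * n / 5) / 5) (by omega)
    obtain ⟨x, hx, hx1, hx2, hx3⟩ : ∃ x : ℕ, x.Prime ∧ x ≠ t₀ ∧ r' ≤ x ∧ x ≤ s' := by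
      by_cases e : r' = t₀
      · exact ⟨s', hs', by omega, by omega, le_rfl⟩
      · exact ⟨r', hr', e, le_rfl, by omega⟩
    obtain ⟨y, hy, hy1, hy2, hy3⟩ : ∃ y : ℕ, y.Prime ∧ y ≠ t₀ ∧ r ≤ y ∧ y ≤ s := by
      by_cases e : r = t₀
      · exact ⟨s, hs, by omega, by omega, le_rfl⟩
      · exact ⟨r, hr, e, le_rfl, by omega⟩
    exact ⟨x, y, mem_T'.2 ⟨by omega, by omega, hx⟩, mem_T'.2 ⟨by omega, by omega, hy⟩, hx1, hy1, by omega, by omega,
      by omega, by omega⟩

/-- two primes of `(n / 2, n]` -/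
theorem exists_prime_T {n : ℕ} (hn : 29 ≤ n) (t₀ : ℕ) (h1 : ¬ (n = 29 ∧ t₀ = 17)) (h2 : ¬ (n = 39 ∧ t₀ = 23)) :
    ∃ r p : ℕ, r ∈ T n ∧ p ∈ T n ∧ r ≠ t₀ ∧ p ≠ t₀ ∧ r + 3 ≤ p ∧ (n - r = 5 ∨ 7 ≤ n - r) ∧ n - r ≠ 8 ∧ n - r ≠ 10 := by
  obtain ⟨r, p, a1, a2, a3, a4, a5, a6, a7, a8⟩ := exists_prime_T_strong hn t₀ h1 h2
  exact ⟨r, p, a1, a2, a3, a4, a5, Or.inr a6, a7, a8⟩

/-- the orders of the sporadic groups and of the Tits group -/
def orders : List ℕ :=
  [17971200, 7920, 95040, 443520, 10200960, 244823040, 175560, 604800, 50232960, 86775571046077562880,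
    4157776806543360000, 42305421312000, 495766656000, 898128000, 44352000, 448345497600, 4030387200, 145926144000,
    460815505920, 51765179004000000, 64561751654400, 4089470473293004800, 1255205709190661721292800,
    273030912000000, 90745943887872000, 4154781481226426191177580544000000,
    808017424794512875886459904961710757005754368000000000]

theorem orders_dvd : (orders.all fun c => Nat.beq (Nat.factorial 71 % c) 0) = true := by decide +kernel

/-- the primes of `T n` not dividing `c` -/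
def lN (n c : ℕ) : List ℕ := (lT n).filter fun p => !(Nat.beq (c % p) 0)

theorem orders_chk : ((List.range 143).all fun n => Nat.blt n 29 || orders.all fun c =>
    (prims.any fun p => Nat.beq (c % p) 0 && Nat.blt n p) ||
    ((lN n c).any fun p => (lN n c).any fun q => !(Nat.beq p q)) ||
    (Nat.beq c 86775571046077562880 && Nat.ble 43 n && Nat.ble n 46) ||
    (Nat.beq c 1255205709190661721292800 && (Nat.beq n 29 || Nat.beq n 30))) = true := by
  decide +kernel

theorem spor_numeric {n c : ℕ} (h29 : 29 ≤ n) (hc : c ∈ orders) (hsm : ∀ p : ℕ, p.Prime → p ∣ c → p ≤ n) (t₀ : ℕ)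
    (hT : ∀ p ∈ T n, p ≠ t₀ → p ∣ c) :
    (c = 86775571046077562880 ∧ 43 ≤ n ∧ n ≤ 46) ∨ (c = 1255205709190661721292800 ∧ (n = 29 ∨ n = 30)) := by
  -- two different primes of `T n` not dividing `c` give a contradiction
  have key : ∀ p ∈ T n, ∀ q ∈ T n, p ≠ q → ¬ p ∣ c → ¬ q ∣ c → False := by
    intro p hp q hq hpq h1 h2
    by_cases e : p = t₀
    · exact h2 (hT q hq fun e' => hpq (e.trans e'.symm))
    · exact h1 (hT p hp e)
  rcases lt_or_ge n 143 with h | h
  · have h3 := List.all_eq_true.1 orders_chk n (List.mem_range.2 h)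
    rw [Bool.or_eq_true, Nat.blt_eq] at h3
    have h4 := List.all_eq_true.1 (h3.resolve_left (by omega)) c hc
    simp only [Bool.or_eq_true, Bool.and_eq_true, Nat.beq_eq, List.any_eq_true, Bool.not_eq_true', Nat.ble_eq,
      Nat.blt_eq, lN, List.mem_filter] at h4
    rcases h4 with ((⟨p, hp, h5, h6⟩ | ⟨p, ⟨hp, hp'⟩, q, ⟨hq, hq'⟩, h5⟩) | ⟨⟨h5, h6⟩, h7⟩) | ⟨h5, h6⟩
    · have := hsm p (prims_prime p hp) (Nat.dvd_of_mod_eq_zero h5)
      omega
    · refine (key p (mem_T_of_lT hp) q (mem_T_of_lT hq) ?_ ?_ ?_).elim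
      · intro e
        rw [e, Nat.beq_refl] at h5
        exact Bool.noConfusion h5
      · intro e
        rw [Nat.mod_eq_zero_of_dvd e] at hp'
        exact Bool.noConfusion hp'
      · intro e
        rw [Nat.mod_eq_zero_of_dvd e] at hq'
        exact Bool.noConfusion hq'
    · exact Or.inl ⟨h5, h6, h7⟩
    · exact Or.inr ⟨h5, h6⟩
  · exfalso
    obtain ⟨r, s, hr, hs, a1, a2, a3⟩ := NT.two_primes (n := n) (by omega)
    have hd : c ∣ Nat.factorial 71 := by
      have := List.all_eq_true.1 orders_dvd c hc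
      rw [Nat.beq_eq] at this
      exact Nat.dvd_of_mod_eq_zero this
    have hle : ∀ p : ℕ, p.Prime → p ∣ c → p ≤ 71 := fun p hp hpc => (hp.dvd_factorial).1 (hpc.trans hd)
    refine key r (mem_T'.2 ⟨by omega, by omega, hr⟩) s (mem_T'.2 ⟨by omega, by omega, hs⟩) (by omega) ?_ ?_
    · intro e
      have := hle r hr e
      omega
    · intro e
      have := hle s hs e
      omega

/-- the weight of a product of different primes -/
theorem W_prod {P : Finset ℕ} (hP : ∀ p ∈ P, p.Prime) : W (∏ p ∈ P, p) = ∑ p ∈ P, p := by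
  unfold W
  rw [Nat.primeFactors_prod hP]
  refine Finset.sum_congr rfl fun p hp => ?_
  have h1 : (∏ q ∈ P, q).factorization p = 1 := by
    rw [Nat.factorization_prod fun q hq => (hP q hq).ne_zero, Finsupp.finsetSum_apply, Finset.sum_eq_single p]
    · exact (hP p hp).factorization_self
    · intro q hq hqp
      rw [(hP q hq).factorization, Finsupp.single_eq_of_ne (by first | exact hqp | exact hqp.symm)]
    · exact fun h => (h hp).elim
  rw [h1, pow_one]

/-- the degree of an alternating group with bounded weights -/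
theorem alt_bound {n m : ℕ} (hn : 29 ≤ n) (hB : Bnd n (alternatingGroup (Fin m))) : m ≤ n := by
  by_contra hc
  obtain ⟨P, hP, hs⟩ := NT.exists_rep (M := n + 1) (by omega) 2
  obtain ⟨σ, hσ⟩ := PermOrd.exists_order_prod (m := m) (P := P) (fun p hp => ⟨(hP p hp).1, (hP p hp).2.1⟩) (by omega)
  have h1 := hB σ
  rw [hσ, W_prod fun p hp => (hP p hp).1, hs] at h1
  omega

end Cfsg.Agent.H964.SpAlt
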